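import Groth.Agent.GenusOneSSLib.Main

/-!
# Stable bundles on a curve of genus one have coprime rank and degree
-/

set_option autoImplicit false
set_option linter.style.haveILetI false
set_option maxHeartbeats 1000000
universe u

open CategoryTheory CategoryTheory.Limits AlgebraicGeometry TopologicalSpace Opposite
open DevissLib CurvLib CurveVBLib

noncomputable section

namespace GenusOneSSLib

variable {X : Scheme.{u}} {k : Type u} [Field k] [IsAlgClosed k] [X.Over (Spec (CommRingCat.of k))]
  [IsIntegral X] [IsProper (X ↘ Spec (CommRingCat.of k))] [Smooth (X ↘ Spec (CommRingCat.of k))]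
  [GeometricallyConnected (X ↘ Spec (CommRingCat.of k))]
  (hdim : topologicalKrullDim X = 1) (hg : Curv2.genus k X = 1)

include hdim

omit [GeometricallyConnected (X ↘ Spec (CommRingCat.of k))] [IsAlgClosed k] in
/-- Twists of stable bundles are stable. -/
theorem stable_twist {r : ℕ} {E : X.Modules} (hE : FlatMod.IsFinLocFreeOfRank r E)
    (hst : ModFun.IsSlopeStable k X E r) {N : X.Modules} (hN : PicF.IsInvertible N) :
    ModFun.IsSlopeStable k X (CohB1.tensorMod N E) r := fun F r' i hi hr' hlt hF => by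
  haveI := CurvLib.isNoetherian k (X := X)
  obtain ⟨eN⟩ := MiscFlat6.nonempty_dualIso hN
  let M := MiscFlat6.dual N
  have hM : PicF.IsInvertible M := MiscFlat6.dual_isInvertible hN
  let eM : CohB1.tensorMod M N ≅ Coh.structureModule X := HilbPolyLib.swapIso _ _ ≪≫ eN
  haveI : (tensorLeft' M).IsEquivalence := VBP1Lib.isEquivalence_tensor (L := M) (M := N) eM
  let e : CohB1.tensorMod M (CohB1.tensorMod N E) ≅ E :=
    (HilbPolyLib.assocIso M N E).symm ≪≫ HilbPolyLib.congrLeft eM E ≪≫ HilbPolyLib.unitLeft E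
  let e' : (tensorLeft' M).obj (CohB1.tensorMod N E) ≅ E := e
  let j : (tensorLeft' M).obj F ⟶ E := (tensorLeft' M).map i ≫ e'.hom
  haveI : Mono ((tensorLeft' M).map i) := inferInstance
  haveI : Mono j := mono_comp _ _
  have hF' : FlatMod.IsFinLocFreeOfRank r' ((tensorLeft' M).obj F) := by
    have h := HopfIneqLib.locFree_tensor (CurvLib.locFree_of_isInvertible hM) hF
    rw [one_mul] at h
    exact h
  have h1 := hst _ r' j inferInstance hr' hlt hF'
  have h2 : Curv2.deg k X ((tensorLeft' M).obj F) r' = Curv2.deg k X F r' + (r' : ℤ) * Curv2.deg k X M 1 :=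
    deg_twist hdim hF hM
  have hMN : Curv2.deg k X M 1 = -Curv2.deg k X N 1 := by
    have h3 := GenusZeroLib.deg_tensor k hdim hM hN
    rw [CurvLib.deg_congr (k := k) eM 1,
      show Curv2.deg k X (Coh.structureModule X) 1 = 0 by rw [Curv2.deg]; push_cast; ring] at h3
    omega
  rw [h2, hMN] at h1
  rw [deg_twist hdim hE hN]
  linarith

include hg

/-- No stable bundle of rank at least two has degree equal to its rank. -/
theorem deg_ne_rank {r : ℕ} (hr : 2 ≤ r) {E : X.Modules} (hE : FlatMod.IsFinLocFreeOfRank r E)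
    (hst : ModFun.IsSlopeStable k X E r) : Curv2.deg k X E r ≠ r := fun hd => by
  haveI := CurvLib.isNoetherian k (X := X)
  have hEc := CurvLib.isCoh_of_locFree hE
  rw [deg_eq_dg hE] at hd
  have hsub : ∀ (G : X.Modules) (j : G ⟶ E), Mono j → Coh.IsCoh G → genRank G + 1 = r →
      dg k G * (r : ℤ) ≤ (r : ℤ) * ((r : ℤ) - 1) - 1 :=
    CurveSDLib.sub_bound (k := k) hdim hE (B := (r : ℤ)) (c := 1) (fun G n j hj hn hlt hG => by
      have h := hst G n j hj hn hlt hG
      rw [deg_eq_dg hE, hd] at h
      omega) (fun h => absurd h (by omega))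
  have hv : Subsingleton (Coh.HH X E 1) := CurveSDLib.vanish (k := k) hdim hE _ hsub (by
    rw [hg, hd]; push_cast; linarith)
  have hgen : Curv2.IsGloballyGenerated E := CurveSDLib.globallyGenerated (k := k) hdim hE fun N hN hNd =>
    CurveSDLib.vanish_twist (k := k) hdim hE hN _ hsub (by rw [hg, hd, hNd]; push_cast; linarith)
  have hh0 : Module.finrank k (Coh.structureModule X ⟶ E) = r := by
    have h := CurvLib.euler_curve (k := k) hdim E
    rw [← dg_eq_euler hdim hg, hd, Module.finrank_zero_of_subsingleton (R := k) (M := Coh.HH X E 1),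
      Nat.cast_zero, sub_zero] at h
    rw [finrank_hom]
    exact_mod_cast h.symm
  haveI : Module.Finite k (Coh.structureModule X ⟶ E) := by
    haveI := finite_HH (k := k) hEc 0
    exact Module.Finite.equiv (homEquiv (k := k) E).symm
  let s := Module.finBasisOfFinrankEq k (Coh.structureModule X ⟶ E) hh0
  let π : FlatMod.freeMod X r ⟶ E := Sigma.desc fun j => s j
  haveI : Epi π := Preadditive.epi_of_cancel_zero _ fun {Z} g hg0 => by
    have hall : ∀ t : Coh.structureModule X ⟶ E, t ≫ g = 0 := fun t => by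
      rw [← s.sum_repr t, Preadditive.sum_comp]
      refine Finset.sum_eq_zero fun j _ => ?_
      have h := congrArg (fun f => inj X j ≫ f) hg0
      simp only [π, Sigma.ι_desc_assoc, comp_zero] at h
      rw [Linear.smul_comp, h, smul_zero]
    obtain ⟨I, p, hp⟩ := hgen
    haveI := hp
    refine (cancel_epi p).1 (Eq.trans ?_ comp_zero.symm)
    exact Sigma.hom_ext _ _ fun i => (Category.assoc _ _ _).symm.trans ((hall _).trans comp_zero.symm)
  haveI := isIso_of_epi_of_rank (k := k) hdim locFree_free hEc (genRank_eq hE) π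
  have h := CurvLib.euler_congr (k := k) (asIso π)
  rw [DetDegLib.euler_freeMod, euler_structure hdim hg, mul_zero, ← dg_eq_euler hdim hg, hd] at h
  omega

/-- Rank and degree of a stable bundle are coprime. -/
theorem gcd_eq_one : ∀ (r : ℕ), 0 < r → ∀ (E : X.Modules), FlatMod.IsFinLocFreeOfRank r E →
    ModFun.IsSlopeStable k X E r → Int.gcd (Curv2.deg k X E r) (r : ℤ) = 1 := by
  intro r
  induction r using Nat.strong_induction_on with
  | _ r ih =>
    intro hr E hE hst
    rcases Nat.lt_or_ge r 2 with hlt | hge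
    · obtain rfl : r = 1 := by omega
      simp
    have hr' : (0 : ℤ) < r := by exact_mod_cast hr
    obtain ⟨δ, e, hδr, hde⟩ : ∃ (δ : ℕ) (e : ℤ), δ < r ∧ Curv2.deg k X E r + (r : ℤ) * e = (r : ℤ) + δ := by
      refine ⟨(Curv2.deg k X E r % (r : ℤ)).toNat, 1 - Curv2.deg k X E r / (r : ℤ), ?_, ?_⟩
      · have := Int.emod_lt_of_pos (Curv2.deg k X E r) hr'
        have := Int.emod_nonneg (Curv2.deg k X E r) hr'.ne'
        omega
      · rw [Int.toNat_of_nonneg (Int.emod_nonneg _ hr'.ne')]
        have := Int.emod_add_mul_ediv (Curv2.deg k X E r) (r : ℤ)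
        linarith
    obtain ⟨L, hL, hLd⟩ := exists_invertible_deg (k := k) hdim e
    have hE' := HopfIneqLib.locFree_tensor (CurvLib.locFree_of_isInvertible hL) hE
    rw [one_mul] at hE'
    have hd' : Curv2.deg k X (CohB1.tensorMod L E) r = (r : ℤ) + δ := by
      rw [deg_twist hdim hE hL, hLd, hde]
    have hst' := stable_twist (k := k) hdim hE hst hL
    have hgcd : Int.gcd (Curv2.deg k X E r) (r : ℤ) = Int.gcd (δ : ℤ) (r : ℤ) := by
      have h1 : (δ : ℤ) = Curv2.deg k X E r + (r : ℤ) * (e - 1) := by rw [mul_sub, mul_one]; linarith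
      rw [h1, Int.gcd_add_mul_left_left]
    rw [hgcd]
    rcases Nat.eq_zero_or_pos δ with rfl | hδ
    · exact absurd (by rw [hd']; simp) (deg_ne_rank (k := k) hdim hg hge hE' hst')
    · obtain ⟨M, hM, hMd, hMs⟩ := exists_kernel_stable (k := k) hdim hg hr hE' hst' (d := r + δ)
        (by rw [← deg_eq_dg hE', hd']; push_cast; ring) (by omega)
      rw [Nat.add_sub_cancel_left] at hM hMs
      have h := ih δ hδr hδ M hM hMs
      rw [deg_eq_dg hM, hMd] at h
      rw [← h]
      push_cast
      rw [Int.neg_gcd, Int.gcd_comm ((r : ℤ) + δ)]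
      conv_rhs => rw [show (r : ℤ) + (δ : ℤ) = (r : ℤ) + (δ : ℤ) * 1 by ring, Int.gcd_add_mul_left_right]

end GenusOneSSLib

end
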