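import Groth.Agent.GenusOneSSLib.RankTwo
import Groth.Agent.GenusOneSSLib.Stable

/-!
# Normalized bundles of rank two
-/

set_option autoImplicit false
set_option linter.style.haveILetI false
set_option maxHeartbeats 1000000
universe u

open CategoryTheory CategoryTheory.Limits AlgebraicGeometry TopologicalSpace Opposite
open DevissLib CurvLib CurveVBLib

noncomputable section

namespace GenusOneSSLib

variable {X : Scheme.{u}} {k : Type u} [Field k] [IsAlgClosed k] [X.Over (Spec (CommRingCat.of k))]
  [IsIntegral X] [IsProper (X ↘ Spec (CommRingCat.of k))] [Smooth (X ↘ Spec (CommRingCat.of k))]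
  (hdim : topologicalKrullDim X = 1)
  {E : X.Modules} (hE : FlatMod.IsFinLocFreeOfRank 2 E)
  (hneg : ∀ M : X.Modules, PicF.IsInvertible M → Curv2.deg k X M 1 < 0 →
    Subsingleton (Coh.HH X (CohB1.tensorMod E M) 0))

include hdim hE hneg

/-- Line subsheaves of normalized bundles have degree at most zero. -/
theorem deg_sub_nonpos {L : X.Modules} (hL : PicF.IsInvertible L) (i : L ⟶ E) [Mono i] :
    Curv2.deg k X L 1 ≤ 0 := by
  by_contra hcon
  obtain ⟨M, hM, hMd, hns⟩ := exists_section_of_sub (k := k) hdim hL i
  exact hns (hneg M hM (by omega))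

/-- Sections of normalized bundles have invertible cokernel. -/
theorem isInvertible_coker (s : Coh.structureModule X ⟶ E) (hs : s ≠ 0) :
    PicF.IsInvertible (cokernel s) := by
  haveI := CurvLib.isNoetherian k (X := X)
  have hO1 := CurvLib.locFree_of_isInvertible (CurvLib.isInvertible_structureModule (X := X))
  have hOc := DevissLib.isCoh_structureModule X
  haveI := mono_of_line (k := k) hdim hO1 hE hs
  obtain ⟨-, hC, hrk, -, -⟩ := sub_data (k := k) hdim hE s hOc
  rw [genRank_eq hO1] at hrk
  have htf := torsionFree_of_no_rank_zero hC fun T a ha hT hT0 => by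
    obtain ⟨J, b, hb, hJ, hrJ, hdJ⟩ := preimage_data (k := k) hE s hOc a hT
    rw [genRank_eq hO1, hT0, add_zero] at hrJ
    have hJr := (sub_data (k := k) hdim hE b hJ).1
    rw [hrJ] at hJr
    have h := deg_sub_nonpos hdim hE hneg (GrassSch.isInvertible_of_rank_one hJr) b
    rw [deg_eq_dg hJr, hdJ] at h
    have hnn := dg_nonneg_of_rank_zero (k := k) hdim hT hT0
    have hO0 : dg k (Coh.structureModule X) = 0 := by
      rw [← deg_eq_dg hO1, Curv2.deg]; push_cast; ring
    exact hnn.2 (by omega)
  have hr := rank_genRank ((Groth.Agent.S1688.result X (fun x => regular_stalk (k := k) x) hdim.le _ hC).mp htf)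
  rw [show genRank (cokernel s) = 1 by omega] at hr
  exact GrassSch.isInvertible_of_rank_one hr

/-- The degree of a normalized bundle is at most twice the genus. -/
theorem deg_le : Curv2.deg k X E 2 ≤ 2 * (Curv2.genus k X : ℤ) := by
  by_contra hcon
  obtain ⟨N, s, hN, hNd, hs⟩ := exists_line_sub (k := k) hdim hE (-1) (by omega)
  obtain ⟨L, i, hL, hi, hLd⟩ := exists_sub_of_section (k := k) hdim hE hN s hs
  have := deg_sub_nonpos hdim hE hneg hL i
  omega

/-- The lower bound for indecomposable normalized bundles. -/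
theorem le_deg (hn0 : Nontrivial (Coh.HH X E 0))
    (hind : ∀ L₁ L₂ : X.Modules, PicF.IsInvertible L₁ → PicF.IsInvertible L₂ → IsEmpty (E ≅ L₁ ⊞ L₂)) :
    2 - 2 * (Curv2.genus k X : ℤ) ≤ Curv2.deg k X E 2 := by
  obtain ⟨y, hy⟩ := exists_ne (0 : Coh.HH X E 0)
  let s := (homEquiv (k := k) E).symm y
  have hs : s ≠ 0 := fun h => hy ((homEquiv (k := k) E).symm.injective (h.trans (map_zero _).symm))
  haveI := mono_of_line (k := k) hdim (CurvLib.locFree_of_isInvertible (CurvLib.isInvertible_structureModule (X := X))) hE hs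
  have h := two_deg_le_of_indecomposable (k := k) hdim hE hind CurvLib.isInvertible_structureModule s
  have hO0 : Curv2.deg k X (Coh.structureModule X) 1 = 0 := by rw [Curv2.deg]; push_cast; ring
  omega

/-- In genus one the degree of a normalized bundle is at most one. -/
theorem deg_le_one [GeometricallyConnected (X ↘ Spec (CommRingCat.of k))] (hg : Curv2.genus k X = 1) :
    Curv2.deg k X E 2 ≤ 1 := by
  by_contra hcon
  have h2 := deg_le hdim hE hneg
  rw [hg] at h2
  have hst : ModFun.IsSlopeStable k X E 2 := fun F r' i hi hr' hlt hF => by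
    obtain rfl : r' = 1 := by omega
    haveI := hi
    have := deg_sub_nonpos hdim hE hneg (GrassSch.isInvertible_of_rank_one hF) i
    push_cast
    omega
  have h := gcd_eq_one (k := k) hdim hg 2 (by norm_num) E hE hst
  rw [show Curv2.deg k X E 2 = 2 by push_cast at h2; omega] at h
  norm_num at h

omit [IsAlgClosed k] hE hneg in
/-- A nonzero section of a line bundle of nonpositive degree trivialises it. -/
theorem nonempty_iso_of_section {L : X.Modules} (hL : PicF.IsInvertible L) (hd : Curv2.deg k X L 1 ≤ 0)
    (s : Coh.structureModule X ⟶ L) (hs : s ≠ 0) : Nonempty (L ≅ Coh.structureModule X) := by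
  haveI := CurvLib.isNoetherian k (X := X)
  have hO1 := CurvLib.locFree_of_isInvertible (CurvLib.isInvertible_structureModule (X := X))
  have hL1 := CurvLib.locFree_of_isInvertible hL
  haveI := mono_of_line (k := k) hdim hO1 hL1 hs
  obtain ⟨-, hC, hrk, hdg, -⟩ := sub_data (k := k) hdim hL1 s (DevissLib.isCoh_structureModule X)
  rw [genRank_eq hO1] at hrk
  obtain ⟨hnn, hz⟩ := dg_nonneg_of_rank_zero (k := k) hdim hC (by omega)
  rw [deg_eq_dg hL1] at hd
  have hO0 : dg k (Coh.structureModule X) = 0 := by
    rw [← deg_eq_dg hO1, Curv2.deg]; push_cast; ring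
  haveI : Epi s := Preadditive.epi_of_cancel_zero _ fun g hg => by
    rw [← cokernel.π_desc _ g hg, (hz (by omega)).eq_of_src (cokernel.desc _ g hg) 0, comp_zero]
  haveI := isIso_of_mono_of_epi s
  exact ⟨(asIso s).symm⟩

end GenusOneSSLib

end
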