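import Groth.Agent.GenusOneSSLib.Kernel

/-!
# Semistable bundles of every rank and degree on a curve of genus one
-/

set_option autoImplicit false
set_option linter.style.haveILetI false
set_option maxHeartbeats 1000000
universe u

open CategoryTheory CategoryTheory.Limits AlgebraicGeometry TopologicalSpace Opposite
open DevissLib CurvLib CurveVBLib

noncomputable section

namespace GenusOneSSLib

variable {X : Scheme.{u}} {k : Type u} [Field k] [IsAlgClosed k] [X.Over (Spec (CommRingCat.of k))]
  [IsIntegral X] [IsProper (X ↘ Spec (CommRingCat.of k))] [Smooth (X ↘ Spec (CommRingCat.of k))]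
  [GeometricallyConnected (X ↘ Spec (CommRingCat.of k))]
  (hdim : topologicalKrullDim X = 1) (hg : Curv2.genus k X = 1)

include hdim

omit [GeometricallyConnected (X ↘ Spec (CommRingCat.of k))] [IsAlgClosed k] [Smooth (X ↘ Spec (CommRingCat.of k))] in
/-- The degree of a twist. -/
theorem deg_twist {r : ℕ} {E : X.Modules} (hE : FlatMod.IsFinLocFreeOfRank r E) {N : X.Modules}
    (hN : PicF.IsInvertible N) :
    Curv2.deg k X (CohB1.tensorMod N E) r = Curv2.deg k X E r + (r : ℤ) * Curv2.deg k X N 1 := by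
  have h := (CurvLib.eulerTensorFormula_of_isCoh (k := k) hdim
    (CurvLib.locFree_of_isInvertible hN) E (CurvLib.isCoh_of_locFree hE)).2
  rw [genRank_eq hE] at h
  change Curv2.euler k X (CohB1.tensorMod N E) = _ at h
  simp only [Curv2.deg] at h ⊢
  rw [h]
  push_cast
  ring

omit [GeometricallyConnected (X ↘ Spec (CommRingCat.of k))] [IsAlgClosed k] in
/-- Twists of semistable bundles are semistable. -/
theorem semistable_twist {r : ℕ} {E : X.Modules} (hE : FlatMod.IsFinLocFreeOfRank r E)
    (hss : ModFun.IsSlopeSemistable k X E r) {N : X.Modules} (hN : PicF.IsInvertible N) :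
    ModFun.IsSlopeSemistable k X (CohB1.tensorMod N E) r := fun F r' i hi hr' hF => by
  haveI := CurvLib.isNoetherian k (X := X)
  obtain ⟨eN⟩ := MiscFlat6.nonempty_dualIso hN
  let M := MiscFlat6.dual N
  have hM : PicF.IsInvertible M := MiscFlat6.dual_isInvertible hN
  let eM : CohB1.tensorMod M N ≅ Coh.structureModule X := HilbPolyLib.swapIso _ _ ≪≫ eN
  haveI : (tensorLeft' M).IsEquivalence := VBP1Lib.isEquivalence_tensor (L := M) (M := N) eM
  let e : CohB1.tensorMod M (CohB1.tensorMod N E) ≅ E :=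
    (HilbPolyLib.assocIso M N E).symm ≪≫ HilbPolyLib.congrLeft eM E ≪≫ HilbPolyLib.unitLeft E
  let e' : (tensorLeft' M).obj (CohB1.tensorMod N E) ≅ E := e
  let j : (tensorLeft' M).obj F ⟶ E := (tensorLeft' M).map i ≫ e'.hom
  haveI : Mono ((tensorLeft' M).map i) := inferInstance
  haveI : Mono j := mono_comp _ _
  have hF' : FlatMod.IsFinLocFreeOfRank r' ((tensorLeft' M).obj F) := by
    have h := HopfIneqLib.locFree_tensor (CurvLib.locFree_of_isInvertible hM) hF
    rw [one_mul] at h
    exact h
  have h1 := hss _ r' j inferInstance hr' hF'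
  have h2 : Curv2.deg k X ((tensorLeft' M).obj F) r' = Curv2.deg k X F r' + (r' : ℤ) * Curv2.deg k X M 1 :=
    deg_twist hdim hF hM
  have hMN : Curv2.deg k X M 1 = -Curv2.deg k X N 1 := by
    have h3 := GenusZeroLib.deg_tensor k hdim hM hN
    rw [CurvLib.deg_congr (k := k) eM 1,
      show Curv2.deg k X (Coh.structureModule X) 1 = 0 by rw [Curv2.deg]; push_cast; ring] at h3
    omega
  rw [h2, hMN] at h1
  rw [deg_twist hdim hE hN]
  linarith

omit [GeometricallyConnected (X ↘ Spec (CommRingCat.of k))] [IsAlgClosed k] in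
/-- The trivial bundle is semistable. -/
theorem semistable_free (n : ℕ) (hn : 0 < n) :
    ModFun.IsSlopeSemistable k X (FlatMod.freeMod X n) n := by
  haveI := CurvLib.isNoetherian k (X := X)
  have hF := locFree_free (X := X) (n := n)
  obtain ⟨E₁, r₁, i₁, hi₁, hr₁, hE₁, hmax, -, -⟩ := exists_destab (k := k) hdim hF hn
  have hO := CurvLib.locFree_of_isInvertible (CurvLib.isInvertible_structureModule (X := X))
  have hO0 : Curv2.deg k X (Coh.structureModule X) 1 = 0 := by rw [Curv2.deg]; push_cast; ring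
  have hE₁0 : Curv2.deg k X E₁ r₁ ≤ 0 := by
    by_contra hcon
    push Not at hcon
    have hOss : ModFun.IsSlopeSemistable k X (Coh.structureModule X) 1 :=
      stable_semistable hdim hO fun F r' i _ h1 h2 _ => absurd h2 (by omega)
    have hz : ∀ l, i₁ ≫ proj X l = 0 := fun l => hom_eq_zero hdim hE₁ hO
      (fun F r' j hj hr' hF' => hmax F r' (j ≫ i₁) inferInstance hr' hF') hOss
      (by rw [hO0, Nat.cast_one, mul_one, zero_mul]; exact hcon) _
    have hi0 : i₁ = 0 := by
      rw [eq_sum_proj i₁]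
      exact Finset.sum_eq_zero fun l _ => by rw [hz, zero_comp]
    have hzero : IsZero E₁ := (IsZero.iff_id_eq_zero E₁).2 (by rw [← cancel_mono i₁, hi0, comp_zero, comp_zero])
    have := genRank_of_isZero hzero
    rw [genRank_eq hE₁] at this
    omega
  intro F r' i hi hr' hF'
  rw [show Curv2.deg k X (FlatMod.freeMod X n) n = 0 by rw [deg_eq_dg hF, dg_free], zero_mul]
  have h1 := hmax F r' i hi hr' hF'
  have h2 : Curv2.deg k X E₁ r₁ * (r' : ℤ) ≤ 0 := mul_nonpos_of_nonpos_of_nonneg hE₁0 (Int.natCast_nonneg _)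
  have h3 : Curv2.deg k X F r' ≤ 0 := by
    by_contra hcon
    push Not at hcon
    have : (0 : ℤ) < Curv2.deg k X F r' * (r₁ : ℤ) := mul_pos hcon (by exact_mod_cast hr₁)
    linarith
  exact mul_nonpos_of_nonpos_of_nonneg h3 (Int.natCast_nonneg _)

omit [GeometricallyConnected (X ↘ Spec (CommRingCat.of k))] in
/-- Invertible modules of every degree. -/
theorem exists_invertible_deg (e : ℤ) : ∃ L : X.Modules, PicF.IsInvertible L ∧ Curv2.deg k X L 1 = e := by
  haveI := CurvLib.isNoetherian k (X := X)
  obtain ⟨x, -, hx⟩ := (isClosed_univ (X := X)).exists_closed_singleton Set.univ_nonempty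
  haveI := HurwitzLib.dvr_stalk_closed (k := k) hdim hx
  obtain ⟨L, -, hL, hLd⟩ := GenusZeroLib.exists_idealMod_iso (k := k) hx hdim
  have hres : (letI : Algebra k (X.residueField x) := Curv2.resAlgebra k X x;
      Module.finrank k (X.residueField x)) = 1 := by
    letI : Algebra k (X.residueField x) := Curv2.resAlgebra k X x
    haveI := HurwitzLib.finite_residueField (k := k) hx
    exact ((LinearEquiv.ofBijective (Algebra.linearMap k (X.residueField x))
      IsAlgClosed.algebraMap_bijective_of_isIntegral).finrank_eq).symm.trans (Module.finrank_self k)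
  rw [hres, Nat.cast_one] at hLd
  obtain ⟨eL⟩ := MiscFlat6.nonempty_dualIso hL
  have hM := MiscFlat6.dual_isInvertible hL
  have hMd : Curv2.deg k X (MiscFlat6.dual L) 1 = 1 := by
    have h3 := GenusZeroLib.deg_tensor k hdim hL hM
    rw [CurvLib.deg_congr (k := k) eL 1,
      show Curv2.deg k X (Coh.structureModule X) 1 = 0 by rw [Curv2.deg]; push_cast; ring] at h3
    omega
  have hO0 : Curv2.deg k X (Coh.structureModule X) 1 = 0 := by rw [Curv2.deg]; push_cast; ring
  induction e using Int.induction_on with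
  | zero => exact ⟨_, CurvLib.isInvertible_structureModule, hO0⟩
  | succ i ih =>
    obtain ⟨A, hA, hAd⟩ := ih
    exact ⟨_, HilbPolyLib.isInvertible_tensor hA hM, by rw [GenusZeroLib.deg_tensor k hdim hA hM, hAd, hMd]⟩
  | pred i ih =>
    obtain ⟨A, hA, hAd⟩ := ih
    exact ⟨_, HilbPolyLib.isInvertible_tensor hA hL, by rw [GenusZeroLib.deg_tensor k hdim hA hL, hAd, hLd]; ring⟩

include hg in
/-- Semistable bundles exist in every rank and degree. -/
theorem exists_semistable : ∀ (r : ℕ), 0 < r → ∀ d : ℤ,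
    ∃ F : X.Modules, FlatMod.IsFinLocFreeOfRank r F ∧ Curv2.deg k X F r = d ∧
      ModFun.IsSlopeSemistable k X F r := by
  intro r
  induction r using Nat.strong_induction_on with
  | _ r ih =>
    intro hr d
    have hr' : (0 : ℤ) < r := by exact_mod_cast hr
    obtain ⟨δ, hδr, e, hde⟩ : ∃ δ : ℕ, δ < r ∧ ∃ e : ℤ, d = (r : ℤ) * e - δ := by
      refine ⟨((-d) % (r : ℤ)).toNat, ?_, -((-d) / (r : ℤ)), ?_⟩
      · have := Int.emod_lt_of_pos (-d) hr'
        have := Int.emod_nonneg (-d) hr'.ne'
        omega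
      · rw [Int.toNat_of_nonneg (Int.emod_nonneg (-d) hr'.ne')]
        have := Int.emod_add_mul_ediv (-d) (r : ℤ)
        linarith
    obtain ⟨M, hM, c, hMd, hMs⟩ : ∃ M : X.Modules, FlatMod.IsFinLocFreeOfRank r M ∧
        ∃ c : ℤ, Curv2.deg k X M r = (r : ℤ) * c - δ ∧ ModFun.IsSlopeSemistable k X M r := by
      rcases Nat.eq_zero_or_pos δ with rfl | hδ
      · refine ⟨_, locFree_free (n := r), 0, ?_, semistable_free hdim r hr⟩
        rw [deg_eq_dg locFree_free, dg_free]
        simp
      · obtain ⟨G, hG, hGd, hGs⟩ := ih δ hδr hδ ((r + δ : ℕ) : ℤ)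
        obtain ⟨M, hM, hMd, hMs⟩ := exists_kernel_semistable (k := k) hdim hg hδ hG hGs (d := r + δ)
          (by rw [← deg_eq_dg hG, hGd]) (by omega)
        rw [Nat.add_sub_cancel] at hM hMs
        refine ⟨M, hM, -1, ?_, hMs⟩
        rw [deg_eq_dg hM, hMd]
        push_cast
        ring
    obtain ⟨L, hL, hLd⟩ := exists_invertible_deg (k := k) hdim (e - c)
    have hF := HopfIneqLib.locFree_tensor (CurvLib.locFree_of_isInvertible hL) hM
    rw [one_mul] at hF
    refine ⟨_, hF, ?_, semistable_twist hdim hM hMs hL⟩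
    rw [deg_twist hdim hM hL, hMd, hLd, hde]
    ring

end GenusOneSSLib

end
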