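import Groth.Agent.CurveSDLib.Sections
import Groth.Agent.CurveVBLib.MaxSub
import Groth.Agent.CurveVBLib.Torsion
import Groth.Agent.DetDegLib.Euler
import Groth.Prelude.Def_KLin

/-!
# Homs out of free modules, scalars and cohomology on curves
-/

set_option autoImplicit false
set_option linter.style.haveILetI false
set_option maxHeartbeats 1000000
universe u

open CategoryTheory CategoryTheory.Limits AlgebraicGeometry TopologicalSpace Opposite
open DevissLib CurvLib CurveVBLib

noncomputable section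

namespace GenusOneSSLib

variable {X : Scheme.{u}} {k : Type u} [Field k] [X.Over (Spec (CommRingCat.of k))]

theorem hMap_smul {M N : X.Modules} (c : k) (φ : M ⟶ N) (p : ℕ) (x : Coh.HH X M p) :
    hMap (k := k) (c • φ) p x = c • hMap (k := k) φ p x := by
  change hMap (k := k) (Formal.smulMod k M c ≫ φ) p x = _
  rw [hMap_comp, ← map_smul]
  rfl

/-- The action of homomorphisms on cohomology, as a linear map. -/
def hMapL {M N : X.Modules} (p : ℕ) (x : Coh.HH X M p) : (M ⟶ N) →ₗ[k] Coh.HH X N p where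
  toFun φ := hMap (k := k) φ p x
  map_add' _ _ := ParGPLib.hMap_add _ _ _ _
  map_smul' _ _ := hMap_smul _ _ _ _

/-- The unit section. -/
def oneS (X : Scheme.{u}) : Γ(Coh.structureModule X, (⊤ : X.Opens)) := (show Γ(X, ⊤) from 1)

/-- The unit class. -/
def one (X : Scheme.{u}) : Coh.HH X (Coh.structureModule X) 0 :=
  (DegPullLib.e0 (Coh.structureModule X)).symm (oneS X)

theorem e0_hMap_one {M : X.Modules} (φ : Coh.structureModule X ⟶ M) :
    DegPullLib.e0 M (hMap (k := k) φ 0 (one X)) = φ.app ⊤ (oneS X) := by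
  rw [RRVanLib.e0_map, one, AddEquiv.apply_symm_apply]

theorem unitHom_top {M : X.Modules} (x : Γ(M, (⊤ : X.Opens))) :
    (QCohLib.unitHom M x).app ⊤ (oneS X) = x := by
  refine ((QCohLib.unitHom_app M x ⊤ (1 : Γ(X, ⊤))).trans ?_)
  rw [one_smul]
  exact AmpleLib.res_refl (M := M) x

theorem eq_unitHom {M : X.Modules} (φ : Coh.structureModule X ⟶ M) :
    QCohLib.unitHom M (φ.app ⊤ (oneS X)) = φ := by
  refine Scheme.Modules.hom_ext _ _ fun V => ConcreteCategory.hom_ext _ _ fun r => ?_
  refine (QCohLib.unitHom_app M _ V r).trans ?_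
  have hnat : φ.app V ((Coh.structureModule X).presheaf.map (homOfLE (le_top : V ≤ ⊤)).op (oneS X)) =
      M.presheaf.map (homOfLE (le_top : V ≤ ⊤)).op (φ.app ⊤ (oneS X)) := QCohLib.app_map φ _ _
  refine (congrArg (fun t => (show Γ(X, V) from r) • t) hnat.symm).trans ?_
  refine (QCohLib.app_smul φ V (show Γ(X, V) from r) _).symm.trans ?_
  refine congrArg (φ.app V) ?_
  change (show Γ(X, V) from r) * X.presheaf.map (homOfLE (le_top : V ≤ ⊤)).op (1 : Γ(X, ⊤)) = r
  rw [map_one, mul_one]

/-- Global sections are maps from the structure sheaf. -/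
def homEquiv (M : X.Modules) : (Coh.structureModule X ⟶ M) ≃ₗ[k] Coh.HH X M 0 :=
  LinearEquiv.ofBijective (hMapL (k := k) 0 (one X)) ⟨fun φ ψ h => by
      have := congrArg (DegPullLib.e0 M) h
      change DegPullLib.e0 M (hMap (k := k) φ 0 (one X)) = DegPullLib.e0 M (hMap (k := k) ψ 0 (one X)) at this
      rw [e0_hMap_one, e0_hMap_one] at this
      rw [← eq_unitHom φ, ← eq_unitHom ψ, this],
    fun y => ⟨QCohLib.unitHom M (DegPullLib.e0 M y), (DegPullLib.e0 M).injective
      ((e0_hMap_one (k := k) _).trans (unitHom_top _))⟩⟩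

theorem finrank_hom (M : X.Modules) :
    Module.finrank k (Coh.structureModule X ⟶ M) = Module.finrank k (Coh.HH X M 0) :=
  (homEquiv (k := k) M).finrank_eq

section Free

variable {n : ℕ}

/-- The inclusions into a free module. -/
abbrev inj (X : Scheme.{u}) {n : ℕ} (i : Fin n) : Coh.structureModule X ⟶ FlatMod.freeMod X n :=
  Sigma.ι (fun _ : Fin n => Coh.structureModule X) i

open Classical in
/-- The projections from a free module. -/
def proj (X : Scheme.{u}) {n : ℕ} (i : Fin n) : FlatMod.freeMod X n ⟶ Coh.structureModule X :=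
  Sigma.desc fun j => if j = i then 𝟙 _ else 0

theorem inj_proj_self (i : Fin n) : inj X i ≫ proj X i = 𝟙 _ := by
  rw [proj, Sigma.ι_desc, if_pos rfl]

theorem inj_proj_ne {i j : Fin n} (h : j ≠ i) : inj X j ≫ proj X i = 0 := by
  rw [proj, Sigma.ι_desc, if_neg h]

theorem proj_inj_sum : ∑ i, proj X i ≫ inj X i = 𝟙 (FlatMod.freeMod X n) := by
  refine Sigma.hom_ext _ _ fun j => ?_
  rw [Preadditive.comp_sum, Category.comp_id, Finset.sum_eq_single j]
  · rw [← Category.assoc, inj_proj_self, Category.id_comp]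
  · intro i _ hi
    rw [← Category.assoc, inj_proj_ne (Ne.symm hi), zero_comp]
  · intro h; exact absurd (Finset.mem_univ j) h

theorem eq_sum_proj {A : X.Modules} (v : A ⟶ FlatMod.freeMod X n) : v = ∑ i, (v ≫ proj X i) ≫ inj X i := by
  conv_lhs => rw [← Category.comp_id v, ← proj_inj_sum, Preadditive.comp_sum]
  simp only [Category.assoc]

theorem locFree_free : FlatMod.IsFinLocFreeOfRank n (FlatMod.freeMod X n) := fun _ =>
  ⟨⊤, trivial, ⟨(Scheme.Modules.restrictFunctorIsoPullback (⊤ : X.Opens).ι).app _ ≪≫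
    KFlatLib.pullFreeIso (⊤ : X.Opens).ι n⟩⟩

theorem dg_free [IsIntegral X] [IsProper (X ↘ Spec (CommRingCat.of k))] :
    dg k (FlatMod.freeMod X n) = 0 := by
  rw [dg, genRank_eq locFree_free, DetDegLib.euler_freeMod k n, sub_self]

end Free

end GenusOneSSLib

end
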