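import Groth.Agent.GenusOneSSLib.Basic

/-!
# Sections of bundles with bounded slopes in genus one
-/

set_option autoImplicit false
set_option linter.style.haveILetI false
set_option maxHeartbeats 1000000
universe u

open CategoryTheory CategoryTheory.Limits AlgebraicGeometry TopologicalSpace Opposite
open DevissLib CurvLib CurveVBLib

noncomputable section

namespace GenusOneSSLib

variable {X : Scheme.{u}} {k : Type u} [Field k] [IsAlgClosed k] [X.Over (Spec (CommRingCat.of k))]
  [IsIntegral X] [IsProper (X ↘ Spec (CommRingCat.of k))] [Smooth (X ↘ Spec (CommRingCat.of k))]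
  [GeometricallyConnected (X ↘ Spec (CommRingCat.of k))]
  (hdim : topologicalKrullDim X = 1) (hg : Curv2.genus k X = 1)

include hdim

omit [GeometricallyConnected (X ↘ Spec (CommRingCat.of k))] [Smooth (X ↘ Spec (CommRingCat.of k))] in
include hg in
theorem euler_structure : Curv2.euler k X (Coh.structureModule X) = 0 := by
  rw [RRVanLib.euler_structure hdim (RRVanLib.finrank_h0_structure (k := k) (X := X)), hg]
  norm_num

omit [GeometricallyConnected (X ↘ Spec (CommRingCat.of k))] [Smooth (X ↘ Spec (CommRingCat.of k))] in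
include hg in
theorem dg_eq_euler (F : X.Modules) : dg k F = Curv2.euler k X F := by
  rw [dg, euler_structure hdim hg, mul_zero, sub_zero]

omit [IsAlgClosed k] [Smooth (X ↘ Spec (CommRingCat.of k))]
  [GeometricallyConnected (X ↘ Spec (CommRingCat.of k))] [IsIntegral X] hdim in
/-- Sections of an extension. -/
theorem finrank_h0_le_of_shortExact {S : ShortComplex X.Modules} (hS : S.ShortExact) (h₁ : Coh.IsCoh S.X₁)
    (h₂ : Coh.IsCoh S.X₂) (h₃ : Coh.IsCoh S.X₃) :
    Module.finrank k (Coh.HH X S.X₂ 0) ≤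
      Module.finrank k (Coh.HH X S.X₁ 0) + Module.finrank k (Coh.HH X S.X₃ 0) := by
  haveI := CurvLib.isNoetherian k (X := X)
  haveI := finite_HH (k := k) h₁ 0
  haveI := finite_HH (k := k) h₂ 0
  haveI := finite_HH (k := k) h₃ 0
  have h := LinearMap.finrank_range_add_finrank_ker (hMap (k := k) S.g 0)
  rw [← exact₂ hS 0, LinearMap.finrank_range_of_inj (injective₀ hS)] at h
  have h2 := Submodule.finrank_le (LinearMap.range (hMap (k := k) S.g 0))
  omega

include hg in
/-- Bundles whose subbundles have slope at most `d / r` with `r ≤ d` have at most `d / r` sections per rank. -/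
theorem finrank_h0_mul_le (r : ℕ) (d : ℤ) (hrd : (r : ℤ) ≤ d) : ∀ (n : ℕ) (I : X.Modules),
    FlatMod.IsFinLocFreeOfRank n I →
    (∀ (G : X.Modules) (j : G ⟶ I), Mono j → Coh.IsCoh G → dg k G * (r : ℤ) ≤ d * (genRank G : ℤ)) →
    (Module.finrank k (Coh.HH X I 0) : ℤ) * (r : ℤ) ≤ d * (n : ℤ) := by
  haveI := CurvLib.isNoetherian k (X := X)
  intro n
  induction n using Nat.strong_induction_on with
  | _ n ih =>
    intro I hI hsub
    rcases Nat.eq_zero_or_pos n with rfl | hn
    · have hz : IsZero I := isZero_of_genRank_zero hI (𝟙 I) hI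
      haveI := ParGPLib.subsingleton_HH_of_isZero k hz 0
      rw [Module.finrank_zero_of_subsingleton]
      simp
    obtain ⟨E₁, r₁, i₁, hi₁, hr₁, hE₁, hmax, -, hquot⟩ := exists_destab (k := k) hdim hI hn
    have hE₁c := CurvLib.isCoh_of_locFree hE₁
    have hIc := CurvLib.isCoh_of_locFree hI
    have hss : ModFun.IsSlopeSemistable k X E₁ r₁ := fun F r' j hj hr' hF =>
      hmax F r' (j ≫ i₁) inferInstance hr' hF
    have hd₁ := hsub E₁ i₁ hi₁ hE₁c
    rw [genRank_eq hE₁] at hd₁
    -- the sections of the destabilizing part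
    have h₁ : (Module.finrank k (Coh.HH X E₁ 0) : ℤ) * (r : ℤ) ≤ d * (r₁ : ℤ) := by
      rcases le_or_gt (dg k E₁) 0 with he | he
      · have h := CurveSDLib.finrank_h0_le (k := k) hdim hE₁ hss 1 (Coh.structureModule X)
          CurvLib.isInvertible_structureModule (by
            have hO : Curv2.deg k X (Coh.structureModule X) 1 = 0 := by rw [Curv2.deg]; push_cast; ring
            rw [hO, deg_eq_dg hE₁, mul_zero, add_zero, Nat.cast_one, mul_one]
            omega)
        rw [mul_one] at h
        replace h := (CurvLib.hIso (k := k) (CurveSDLib.unitR E₁) 0).finrank_eq.trans_le h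
        calc (Module.finrank k (Coh.HH X E₁ 0) : ℤ) * (r : ℤ) ≤ (r₁ : ℤ) * (r : ℤ) :=
              mul_le_mul_of_nonneg_right (by exact_mod_cast h) (Int.natCast_nonneg _)
          _ ≤ (r₁ : ℤ) * d := mul_le_mul_of_nonneg_left hrd (Int.natCast_nonneg _)
          _ = d * (r₁ : ℤ) := mul_comm _ _
      · haveI := CurveSDLib.vanish (k := k) hdim hE₁ (dg k E₁ * ((r₁ : ℤ) - 1))
          (fun G j hj hG hrk => by
            have := CurveVBLib.sub_le hdim hE₁ hss j hG
            rwa [show (genRank G : ℤ) = (r₁ : ℤ) - 1 by omega] at this)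
          (by rw [hg]; push_cast; linarith)
        have h := CurvLib.euler_curve (k := k) hdim E₁
        rw [← dg_eq_euler hdim hg, Module.finrank_zero_of_subsingleton (R := k) (M := Coh.HH X E₁ 1),
          Nat.cast_zero, sub_zero] at h
        rw [← h]
        exact hd₁
    -- the quotient
    obtain ⟨-, hQ, hrk, hdg, -⟩ := sub_data (k := k) hdim hI i₁ hE₁c
    rw [genRank_eq hE₁] at hrk
    have htf := torsionFree_of_no_rank_zero hQ fun T a ha hT hT0 => by
      obtain ⟨J, b, hb, hJ, hrJ, hdJ⟩ := preimage_data (k := k) hI i₁ hE₁c a hT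
      rw [genRank_eq hE₁, hT0, add_zero] at hrJ
      have hJr := (sub_data (k := k) hdim hI b hJ).1
      have h := hmax J (genRank J) b hb (by omega) hJr
      rw [deg_eq_dg hJr, deg_eq_dg hE₁, hdJ, hrJ] at h
      have hnn := dg_nonneg_of_rank_zero (k := k) hdim hT hT0
      have h' := le_of_mul_le_mul_right h (by exact_mod_cast hr₁)
      exact hnn.2 (by linarith [hnn.1])
    have hQr : FlatMod.IsFinLocFreeOfRank (genRank (cokernel i₁)) (cokernel i₁) :=
      rank_genRank ((Groth.Agent.S1688.result X (fun x => regular_stalk (k := k) x) hdim.le _ hQ).mp htf)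
    have h₂ := ih (genRank (cokernel i₁)) (by omega) (cokernel i₁) hQr fun G j hj hG => by
      obtain ⟨hGr, -, -, -, hz⟩ := sub_data (k := k) hdim hQr j hG
      rcases Nat.eq_zero_or_pos (genRank G) with h0 | hpos
      · rw [dg_of_isZero (hz h0), h0]; simp
      · have h := hquot G (genRank G) j hj hpos hGr
        rw [deg_eq_dg hGr, deg_eq_dg hE₁] at h
        refine le_of_mul_le_mul_right ?_ (show (0 : ℤ) < (r₁ : ℤ) by exact_mod_cast hr₁)
        calc dg k G * (r : ℤ) * (r₁ : ℤ) = dg k G * (r₁ : ℤ) * (r : ℤ) := by ring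
          _ ≤ dg k E₁ * (genRank G : ℤ) * (r : ℤ) := mul_le_mul_of_nonneg_right h.le (Int.natCast_nonneg _)
          _ = dg k E₁ * (r : ℤ) * (genRank G : ℤ) := by ring
          _ ≤ d * (r₁ : ℤ) * (genRank G : ℤ) := mul_le_mul_of_nonneg_right hd₁ (Int.natCast_nonneg _)
          _ = d * (genRank G : ℤ) * (r₁ : ℤ) := by ring
    have hS : (ShortComplex.mk i₁ (cokernel.π i₁) (cokernel.condition i₁)).ShortExact :=
      { exact := ShortComplex.exact_of_g_is_cokernel _ (cokernelIsCokernel i₁)
        mono_f := inferInstanceAs (Mono i₁)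
        epi_g := inferInstanceAs (Epi (cokernel.π i₁)) }
    have h3 := finrank_h0_le_of_shortExact (k := k)
      (S := ShortComplex.mk i₁ (cokernel.π i₁) (cokernel.condition i₁)) hS hE₁c hIc hQ
    calc (Module.finrank k (Coh.HH X I 0) : ℤ) * (r : ℤ)
        ≤ ((Module.finrank k (Coh.HH X E₁ 0) : ℤ) + Module.finrank k (Coh.HH X (cokernel i₁) 0)) * (r : ℤ) :=
          mul_le_mul_of_nonneg_right (by exact_mod_cast h3) (Int.natCast_nonneg _)
      _ ≤ d * (r₁ : ℤ) + d * (genRank (cokernel i₁) : ℤ) := by linarith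
      _ = d * (n : ℤ) := by rw [hrk]; push_cast; ring

end GenusOneSSLib

end
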