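import Groth.Agent.GenusOneSSLib.Bound

/-!
# The kernel of evaluation of a semistable bundle in genus one is semistable
-/

set_option autoImplicit false
set_option linter.style.haveILetI false
set_option maxHeartbeats 1000000
universe u

open CategoryTheory CategoryTheory.Limits AlgebraicGeometry TopologicalSpace Opposite
open DevissLib CurvLib CurveVBLib

noncomputable section

namespace GenusOneSSLib

variable {X : Scheme.{u}} {k : Type u} [Field k] [IsAlgClosed k] [X.Over (Spec (CommRingCat.of k))]
  [IsIntegral X] [IsProper (X ↘ Spec (CommRingCat.of k))] [Smooth (X ↘ Spec (CommRingCat.of k))]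
  [GeometricallyConnected (X ↘ Spec (CommRingCat.of k))]
  (hdim : topologicalKrullDim X = 1) (hg : Curv2.genus k X = 1)

include hdim hg

/-- In genus one the differentials are trivial. -/
theorem nonempty_iso_om : Nonempty (Coh.structureModule X ≅ CurveSDLib.om k X) :=
  CurveDualLib.nonempty_iso_omega k X hdim CurvLib.isInvertible_structureModule
    (by rw [hg]; simp [Curv2.deg])
    (by rw [hg, RRVanLib.finrank_h0_structure (k := k) (X := X)])

/-- A map to the structure sheaf is zero when it is zero on first cohomology. -/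
theorem eq_zero_of_hMap_one {F : X.Modules} (hF : Coh.IsCoh F) (φ : F ⟶ Coh.structureModule X)
    (h : ∀ x, hMap (k := k) φ 1 x = 0) : φ = 0 := by
  obtain ⟨e⟩ := nonempty_iso_om (k := k) hdim hg
  rw [← cancel_mono e.hom, zero_comp]
  exact CurveSDLib.eq_zero_of_hMap (k := k) hdim hF _ fun x => by rw [hMap_comp, h, map_zero]

/-- The rank of a subbundle of a free module in terms of its first cohomology, when mapped to zero in `G`. -/
theorem sub_kernel_bound {r : ℕ} {G : X.Modules} (hG : FlatMod.IsFinLocFreeOfRank r G) {d : ℕ}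
    (π : FlatMod.freeMod X d ⟶ G)
    (hπ : ∀ c : Fin d → k, (∑ j, c j • inj X j) ≫ π = 0 → c = 0)
    {N : X.Modules} (hN : Coh.IsCoh N) (ι : N ⟶ FlatMod.freeMod X d) [Mono ι] (hι : ι ≫ π = 0) :
    ∃ (m : ℕ) (I : X.Modules) (ιI : I ⟶ G), Mono ιI ∧ Coh.IsCoh I ∧ genRank N + genRank I ≤ m ∧
      m ≤ Module.finrank k (Coh.HH X N 1) ∧ m ≤ Module.finrank k (Coh.HH X I 0) := by
  classical
  haveI := CurvLib.isNoetherian k (X := X)
  haveI := finite_HH (k := k) hN 1
  obtain ⟨e⟩ := nonempty_iso_om (k := k) hdim hg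
  have h1O : Module.finrank k (Coh.HH X (Coh.structureModule X) 1) = 1 :=
    ((hIso (k := k) e 1).finrank_eq).trans (CurveDualLib.h1_omega k X hdim)
  haveI := finite_HH (k := k) (DevissLib.isCoh_structureModule X) 1
  let θ : Coh.HH X (Coh.structureModule X) 1 ≃ₗ[k] k :=
    LinearEquiv.ofFinrankEq _ _ (h1O.trans (Module.finrank_self k).symm)
  let φ : Fin d → (N ⟶ Coh.structureModule X) := fun j => ι ≫ proj X j
  let α : Coh.HH X N 1 →ₗ[k] (Fin d → k) :=
    LinearMap.pi fun j => θ.toLinearMap.comp (hMap (k := k) (φ j) 1)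
  let b := Module.finBasis k (LinearMap.range α)
  choose a ha using fun l => LinearMap.exists_extend (b.coord l)
  let w : Fin (Module.finrank k (LinearMap.range α)) → (Fin d → k) := fun l => (b l : Fin d → k)
  let ψ : Fin (Module.finrank k (LinearMap.range α)) → (N ⟶ Coh.structureModule X) :=
    fun l => ∑ j, a l (fun i => if j = i then 1 else 0) • φ j
  have hψ : ∀ l x, θ (hMap (k := k) (ψ l) 1 x) = a l (α x) := fun l x => by
    have h1 : hMap (k := k) (ψ l) 1 x = ∑ j, a l (fun i => if j = i then 1 else 0) • hMap (k := k) (φ j) 1 x := by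
      refine (map_sum (hMapL (k := k) 1 x) _ _).trans (Finset.sum_congr rfl fun j _ => ?_)
      exact hMap_smul _ _ _ _
    rw [h1, map_sum, LinearMap.pi_apply_eq_sum_univ (a l) (α x)]
    refine Finset.sum_congr rfl fun j _ => ?_
    rw [map_smul, smul_eq_mul, smul_eq_mul, mul_comm]
    rfl
  have hφ : ∀ j, φ j = ∑ l, w l j • ψ l := fun j => by
    rw [← sub_eq_zero]
    refine eq_zero_of_hMap_one (k := k) hdim hg hN _ fun x => θ.injective ?_
    have h1 : hMap (k := k) (φ j - ∑ l, w l j • ψ l) 1 x =
        hMap (k := k) (φ j) 1 x - ∑ l, w l j • hMap (k := k) (ψ l) 1 x := by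
      rw [ParGPLib.hMap_sub, sub_right_inj]
      refine (map_sum (hMapL (k := k) 1 x) _ _).trans (Finset.sum_congr rfl fun l _ => ?_)
      exact hMap_smul _ _ _ _
    rw [h1, map_sub, map_sum, map_zero, sub_eq_zero]
    let y : LinearMap.range α := ⟨α x, LinearMap.mem_range_self α x⟩
    have h2 : (y : Fin d → k) j = ∑ l, b.coord l y * w l j := by
      conv_lhs => rw [← b.sum_repr y]
      simp only [Submodule.coe_sum, Submodule.coe_smul, Finset.sum_apply, Pi.smul_apply, smul_eq_mul]
      rfl
    refine h2.trans (Finset.sum_congr rfl fun l _ => ?_)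
    rw [map_smul, smul_eq_mul, hψ, mul_comm]
    exact congrArg (fun t => w l j * t) (LinearMap.congr_fun (ha l) y).symm
  let ι' : N ⟶ FlatMod.freeMod X (Module.finrank k (LinearMap.range α)) := ∑ l, ψ l ≫ inj X l
  let τ : FlatMod.freeMod X (Module.finrank k (LinearMap.range α)) ⟶ FlatMod.freeMod X d :=
    Sigma.desc fun l => ∑ j, w l j • inj X j
  have hτ : ι' ≫ τ = ι := by
    rw [eq_sum_proj ι]
    change (∑ l, ψ l ≫ inj X l) ≫ τ = ∑ j, φ j ≫ inj X j
    simp only [Preadditive.sum_comp, Category.assoc, τ, Sigma.ι_desc, hφ, Preadditive.comp_sum,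
      Linear.comp_smul, Linear.smul_comp]
    exact Finset.sum_comm
  haveI : Mono ι' := mono_of_mono_fac hτ
  let ρ : FlatMod.freeMod X (Module.finrank k (LinearMap.range α)) ⟶ G := τ ≫ π
  have hρ : ι' ≫ ρ = 0 := by rw [← Category.assoc, hτ, hι]
  have hFc := CurvLib.isCoh_of_locFree (X := X) (locFree_free (n := Module.finrank k (LinearMap.range α)))
  obtain ⟨hK, hI, hrk, -⟩ := ker_im_data (k := k) hFc (CurvLib.isCoh_of_locFree hG) ρ
  rw [genRank_eq locFree_free] at hrk
  have hKr := (sub_data (k := k) hdim locFree_free (kernel.ι ρ) hK).1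
  haveI : Mono (kernel.lift ρ ι' hρ) := mono_of_mono_fac (kernel.lift_ι ρ ι' hρ)
  obtain ⟨-, -, hrN, -, -⟩ := sub_data (k := k) hdim hKr (kernel.lift ρ ι' hρ) hN
  refine ⟨Module.finrank k (LinearMap.range α), Abelian.image ρ, Abelian.image.ι ρ, inferInstance, hI, by omega,
    LinearMap.finrank_range_le α, ?_⟩
  haveI := finite_HH (k := k) hI 0
  haveI : Module.Finite k (Coh.structureModule X ⟶ Abelian.image ρ) :=
    Module.Finite.equiv (homEquiv (k := k) (Abelian.image ρ)).symm
  let Λ : (Fin (Module.finrank k (LinearMap.range α)) → k) →ₗ[k] (Coh.structureModule X ⟶ Abelian.image ρ) :=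
    Fintype.linearCombination k fun l => inj X l ≫ Abelian.factorThruImage ρ
  have hΛ : Function.Injective Λ := (injective_iff_map_eq_zero Λ).2 fun c hc => by
    have h1 : (∑ j, (∑ l, c l * w l j) • inj X j) ≫ π = 0 := by
      have h2 := congrArg (fun t => t ≫ Abelian.image.ι ρ) hc
      simp only [Λ, Fintype.linearCombination_apply, Preadditive.sum_comp, Linear.smul_comp, Category.assoc,
        Abelian.image.fac, zero_comp, ρ, τ] at h2
      rw [← h2, Preadditive.sum_comp]
      simp only [Sigma.ι_desc_assoc, Preadditive.sum_comp, Linear.smul_comp, Finset.sum_smul, Finset.smul_sum,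
        smul_smul]
      exact Finset.sum_comm
    have h3 := hπ _ h1
    have h4 : ∑ l, c l • b l = 0 := Subtype.ext (funext fun j => by
      simp only [Submodule.coe_sum, Submodule.coe_smul, Finset.sum_apply, Pi.smul_apply, smul_eq_mul,
        Submodule.coe_zero, Pi.zero_apply]
      exact congrFun h3 j)
    exact funext fun l => Fintype.linearIndependent_iff.1 b.linearIndependent c h4 l
  have hm := LinearMap.finrank_le_finrank_of_injective hΛ
  rw [Module.finrank_fin_fun, finrank_hom] at hm
  exact hm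

/-- The kernel of the evaluation map of a semistable bundle of slope more than one, with bounds on its
subbundles. -/
theorem exists_kernel {r : ℕ} (hr : 0 < r) {G : X.Modules} (hG : FlatMod.IsFinLocFreeOfRank r G)
    (hss : ModFun.IsSlopeSemistable k X G r) {d : ℕ} (hd : dg k G = d) (hrd : r < d) :
    ∃ M : X.Modules, FlatMod.IsFinLocFreeOfRank (d - r) M ∧ dg k M = -(d : ℤ) ∧
      ∀ (N : X.Modules) (n : ℕ) (j : N ⟶ M), Mono j → 0 < n → FlatMod.IsFinLocFreeOfRank n N →
        ∃ (m : ℕ) (I : X.Modules) (ιI : I ⟶ G), Mono ιI ∧ Coh.IsCoh I ∧ n + genRank I ≤ m ∧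
          (m : ℤ) ≤ -Curv2.deg k X N n ∧ m ≤ Module.finrank k (Coh.HH X I 0) := by
  classical
  haveI := CurvLib.isNoetherian k (X := X)
  have hGc := CurvLib.isCoh_of_locFree hG
  have hsub : ∀ (H : X.Modules) (j : H ⟶ G), Mono j → Coh.IsCoh H → genRank H + 1 = r →
      dg k H * (r : ℤ) ≤ dg k G * ((r : ℤ) - 1) := fun H j hj hH hrk => by
    have h := sub_le hdim hG hss j hH
    rwa [show (genRank H : ℤ) = (r : ℤ) - 1 by omega] at h
  have hv : Subsingleton (Coh.HH X G 1) := CurveSDLib.vanish (k := k) hdim hG _ hsub (by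
    rw [hg, hd]; push_cast; linarith)
  have hgen : Curv2.IsGloballyGenerated G := CurveSDLib.globallyGenerated (k := k) hdim hG fun N hN hNd =>
    CurveSDLib.vanish_twist (k := k) hdim hG hN _ hsub (by
      rw [hg, hd, hNd]; push_cast
      have : (r : ℤ) < d := by exact_mod_cast hrd
      linarith)
  have hh0 : Module.finrank k (Coh.structureModule X ⟶ G) = d := by
    have h := CurvLib.euler_curve (k := k) hdim G
    rw [← dg_eq_euler hdim hg, hd, Module.finrank_zero_of_subsingleton (R := k) (M := Coh.HH X G 1),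
      Nat.cast_zero, sub_zero] at h
    rw [finrank_hom]
    exact_mod_cast h.symm
  haveI : Module.Finite k (Coh.structureModule X ⟶ G) := by
    haveI := finite_HH (k := k) hGc 0
    exact Module.Finite.equiv (homEquiv (k := k) G).symm
  let s := Module.finBasisOfFinrankEq k (Coh.structureModule X ⟶ G) hh0
  let π : FlatMod.freeMod X d ⟶ G := Sigma.desc fun j => s j
  haveI : Epi π := Preadditive.epi_of_cancel_zero _ fun {Z} g hg0 => by
    have hall : ∀ t : Coh.structureModule X ⟶ G, t ≫ g = 0 := fun t => by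
      rw [← s.sum_repr t, Preadditive.sum_comp]
      refine Finset.sum_eq_zero fun j _ => ?_
      have h := congrArg (fun f => inj X j ≫ f) hg0
      simp only [π, Sigma.ι_desc_assoc, comp_zero] at h
      rw [Linear.smul_comp, h, smul_zero]
    obtain ⟨I, p, hp⟩ := hgen
    haveI := hp
    refine (cancel_epi p).1 (Eq.trans ?_ comp_zero.symm)
    exact Sigma.hom_ext _ _ fun i => (Category.assoc _ _ _).symm.trans ((hall _).trans comp_zero.symm)
  have hπ : ∀ c : Fin d → k, (∑ j, c j • inj X j) ≫ π = 0 → c = 0 := fun c hc => by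
    simp only [Preadditive.sum_comp, Linear.smul_comp, π, Sigma.ι_desc] at hc
    exact funext fun j => Fintype.linearIndependent_iff.1 s.linearIndependent c hc j
  have hF := locFree_free (X := X) (n := d)
  have hFc := CurvLib.isCoh_of_locFree hF
  obtain ⟨hK, -, -, -⟩ := ker_im_data (k := k) hFc hGc π
  let S : ShortComplex X.Modules := ShortComplex.mk (kernel.ι π) π (kernel.condition π)
  have hS : S.ShortExact := ShortComplex.ShortExact.mk (ShortComplex.exact_kernel π)
  have hrk : genRank (FlatMod.freeMod X d) = genRank (kernel π) + genRank G :=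
    genRank_add (S := S) hS hK hFc hGc
  rw [genRank_eq hF, genRank_eq hG] at hrk
  have hdeg : dg k (FlatMod.freeMod X d) = dg k (kernel π) + dg k G := dg_add (k := k) (S := S) hS hK hFc hGc
  rw [dg_free, hd] at hdeg
  have hKr := (sub_data (k := k) hdim hF (kernel.ι π) hK).1
  rw [show genRank (kernel π) = d - r by omega] at hKr
  refine ⟨kernel π, hKr, by omega, fun N n j hj hn hN => ?_⟩
  have hNc := CurvLib.isCoh_of_locFree hN
  obtain ⟨m, I, ιI, hιI, hIc, h1, h2, h3⟩ := sub_kernel_bound (k := k) hdim hg hG π hπ hNc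
    (j ≫ kernel.ι π) (by rw [Category.assoc, kernel.condition, comp_zero])
  rw [genRank_eq hN] at h1
  have h0 : Module.finrank k (Coh.HH X N 0) = 0 := by
    rw [← finrank_hom]
    haveI : Subsingleton (Coh.structureModule X ⟶ N) := by
      suffices h : ∀ v : Coh.structureModule X ⟶ N, v = 0 from ⟨fun v w => (h v).trans (h w).symm⟩
      intro v
      let v' : Coh.structureModule X ⟶ FlatMod.freeMod X d := v ≫ j ≫ kernel.ι π
      have hend : ∀ t : Coh.structureModule X ⟶ Coh.structureModule X, ∃ c : k, c • 𝟙 _ = t := by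
        have he : Module.finrank k (Coh.structureModule X ⟶ Coh.structureModule X) = 1 := by
          rw [finrank_hom]; exact RRVanLib.finrank_h0_structure (k := k) (X := X)
        refine fun t => (finrank_eq_one_iff_of_nonzero' (𝟙 (Coh.structureModule X)) ?_).1 he t
        intro h0
        haveI : Subsingleton (Coh.structureModule X ⟶ Coh.structureModule X) :=
          ⟨fun a b => by rw [← Category.id_comp a, ← Category.id_comp b, h0, zero_comp, zero_comp]⟩
        rw [Module.finrank_zero_of_subsingleton] at he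
        omega
      choose c hc using fun l => hend (v' ≫ proj X l)
      have hv' : v' = ∑ l, c l • inj X l := by
        rw [eq_sum_proj v']
        exact Finset.sum_congr rfl fun l _ => by rw [← hc, Linear.smul_comp, Category.id_comp]
      have hc0 := hπ c (by rw [← hv']; simp [v'])
      rw [← cancel_mono (j ≫ kernel.ι π), zero_comp]
      change v' = 0
      simp [hv', hc0]
    exact Module.finrank_zero_of_subsingleton
  have he := CurvLib.euler_curve (k := k) hdim N
  rw [← dg_eq_euler hdim hg, h0, Nat.cast_zero, zero_sub] at he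
  refine ⟨m, I, ιI, hιI, hIc, h1, ?_, h3⟩
  rw [deg_eq_dg hN, he, neg_neg]
  exact_mod_cast h2

/-- The kernel of the evaluation map of a semistable bundle of slope more than one is semistable. -/
theorem exists_kernel_semistable {r : ℕ} (hr : 0 < r) {G : X.Modules} (hG : FlatMod.IsFinLocFreeOfRank r G)
    (hss : ModFun.IsSlopeSemistable k X G r) {d : ℕ} (hd : dg k G = d) (hrd : r < d) :
    ∃ M : X.Modules, FlatMod.IsFinLocFreeOfRank (d - r) M ∧ dg k M = -(d : ℤ) ∧
      ModFun.IsSlopeSemistable k X M (d - r) := by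
  haveI := CurvLib.isNoetherian k (X := X)
  obtain ⟨M, hM, hMd, hsub⟩ := exists_kernel (k := k) hdim hg hr hG hss hd hrd
  refine ⟨M, hM, hMd, fun N n j hj hn hN => ?_⟩
  obtain ⟨m, I, ιI, hιI, hIc, h1, h2, h3⟩ := hsub N n j hj hn hN
  obtain ⟨hIr, -, -, -, -⟩ := sub_data (k := k) hdim hG ιI hIc
  have hb := finrank_h0_mul_le (k := k) hdim hg r (dg k G) (by omega) _ I hIr fun H a ha hH =>
    sub_le hdim hG hss (a ≫ ιI) hH
  rw [hd] at hb
  have h4 : (m : ℤ) * (r : ℤ) ≤ (d : ℤ) * (genRank I : ℤ) :=
    le_trans (mul_le_mul_of_nonneg_right (by exact_mod_cast h3) (Int.natCast_nonneg _)) hb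
  rw [deg_eq_dg hM, hMd, Nat.cast_sub hrd.le]
  have h1' : (n : ℤ) + (genRank I : ℤ) ≤ m := by exact_mod_cast h1
  have hA := mul_le_mul_of_nonneg_right h1' (Int.natCast_nonneg d)
  have hB := mul_le_mul_of_nonneg_right h2 (show (0 : ℤ) ≤ (d : ℤ) - r by omega)
  linarith

/-- The kernel of the evaluation map of a stable bundle of slope more than one is stable. -/
theorem exists_kernel_stable {r : ℕ} (hr : 0 < r) {G : X.Modules} (hG : FlatMod.IsFinLocFreeOfRank r G)
    (hst : ModFun.IsSlopeStable k X G r) {d : ℕ} (hd : dg k G = d) (hrd : r < d) :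
    ∃ M : X.Modules, FlatMod.IsFinLocFreeOfRank (d - r) M ∧ dg k M = -(d : ℤ) ∧
      ModFun.IsSlopeStable k X M (d - r) := by
  haveI := CurvLib.isNoetherian k (X := X)
  have hss := stable_semistable hdim hG hst
  obtain ⟨M, hM, hMd, hsub⟩ := exists_kernel (k := k) hdim hg hr hG hss hd hrd
  refine ⟨M, hM, hMd, fun N n j hj hn hnlt hN => ?_⟩
  obtain ⟨m, I, ιI, hιI, hIc, h1, h2, h3⟩ := hsub N n j hj hn hN
  obtain ⟨hIr, -, hrk, -, hzI⟩ := sub_data (k := k) hdim hG ιI hIc
  rw [deg_eq_dg hM, hMd, Nat.cast_sub hrd.le]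
  have hrd' : (0 : ℤ) < (d : ℤ) - r := by omega
  have h1' : (n : ℤ) + (genRank I : ℤ) ≤ m := by exact_mod_cast h1
  have hi : 0 < genRank I := Nat.pos_of_ne_zero fun h0 => by
    haveI := ParGPLib.subsingleton_HH_of_isZero k (hzI h0) 0
    rw [Module.finrank_zero_of_subsingleton] at h3
    omega
  suffices key : (n : ℤ) * d < (m : ℤ) * ((d : ℤ) - r) by
    have hB := mul_le_mul_of_nonneg_right h2 hrd'.le
    linarith
  rcases Nat.lt_or_ge (genRank I) r with hlt | hge
  · have hb := finrank_h0_mul_le (k := k) hdim hg (r * r) (dg k G * (r : ℤ) - 1) (by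
      rw [hd]; push_cast
      have : ((r : ℤ) + 1) * r ≤ (d : ℤ) * r := mul_le_mul_of_nonneg_right (by omega) (Int.natCast_nonneg _)
      have : (0 : ℤ) < r := by exact_mod_cast hr
      linarith) _ I hIr fun H a ha hH => by
        obtain ⟨hHr, -, hrH, -, hzH⟩ := sub_data (k := k) hdim hIr a hH
        rcases Nat.eq_zero_or_pos (genRank H) with h0 | hpos
        · rw [dg_of_isZero (hzH h0), h0]; simp
        · have h := hst H (genRank H) (a ≫ ιI) inferInstance hpos (by omega) hHr
          rw [deg_eq_dg hHr, deg_eq_dg hG] at h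
          have h' := mul_le_mul_of_nonneg_right (Int.le_sub_one_of_lt h) (Int.natCast_nonneg r)
          have : (genRank H : ℤ) ≤ r := by omega
          push_cast
          linarith
    rw [hd] at hb
    push_cast at hb
    have h4 : (m : ℤ) * ((r : ℤ) * r) ≤ ((d : ℤ) * r - 1) * (genRank I : ℤ) :=
      le_trans (mul_le_mul_of_nonneg_right (by exact_mod_cast h3) (by positivity)) hb
    have h5 : (m : ℤ) * r < (d : ℤ) * (genRank I : ℤ) := by
      refine lt_of_mul_lt_mul_right ?_ (Int.natCast_nonneg r)
      have : (0 : ℤ) < (genRank I : ℤ) := by exact_mod_cast hi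
      linarith
    have hA := mul_le_mul_of_nonneg_right h1' (Int.natCast_nonneg d)
    linarith
  · have hI : genRank I = r := by omega
    have hb := finrank_h0_mul_le (k := k) hdim hg r (dg k G) (by omega) _ I hIr fun H a ha hH =>
      sub_le hdim hG hss (a ≫ ιI) hH
    rw [hd, hI] at hb
    have hm : (m : ℤ) ≤ d := by
      refine le_of_mul_le_mul_right ?_ (show (0 : ℤ) < r by exact_mod_cast hr)
      exact le_trans (mul_le_mul_of_nonneg_right (by exact_mod_cast h3) (Int.natCast_nonneg _)) hb
    rw [hI] at h1'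
    have hn' : (n : ℤ) < (d : ℤ) - r := by omega
    rcases lt_or_eq_of_le hm with hlt' | heq
    · have hA := mul_le_mul_of_nonneg_right h1' (Int.natCast_nonneg d)
      have := mul_lt_mul_of_pos_right hlt' (show (0 : ℤ) < r by exact_mod_cast hr)
      linarith
    · rw [heq, mul_comm (d : ℤ) ((d : ℤ) - r)]
      exact mul_lt_mul_of_pos_right hn' (by omega)

end GenusOneSSLib

end
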