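import Groth.Agent.GenusOneSSLib.Main
import Groth.Agent.CurveSDLib.Splitting
import Groth.Agent.CurveVBLib.Line
import Groth.Agent.GrassLib.SchProjSpace

/-!
# Rank two bundles on curves: line subbundles
-/

set_option autoImplicit false
set_option linter.style.haveILetI false
set_option maxHeartbeats 1000000
universe u

open CategoryTheory CategoryTheory.Limits AlgebraicGeometry TopologicalSpace Opposite
open DevissLib CurvLib CurveVBLib

noncomputable section

namespace GenusOneSSLib

variable {X : Scheme.{u}} {k : Type u} [Field k] [IsAlgClosed k] [X.Over (Spec (CommRingCat.of k))]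
  [IsIntegral X] [IsProper (X ↘ Spec (CommRingCat.of k))] [Smooth (X ↘ Spec (CommRingCat.of k))]
  (hdim : topologicalKrullDim X = 1)

include hdim

omit [IsAlgClosed k] in
/-- Saturation of a line subsheaf of a bundle of rank two. -/
theorem exists_saturated {E : X.Modules} (hE : FlatMod.IsFinLocFreeOfRank 2 E) {L : X.Modules}
    (hL : PicF.IsInvertible L) (i : L ⟶ E) [Mono i] :
    ∃ (L' : X.Modules) (j : L' ⟶ E), PicF.IsInvertible L' ∧ Mono j ∧ PicF.IsInvertible (cokernel j) ∧
      Curv2.deg k X L 1 ≤ Curv2.deg k X L' 1 ∧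
      Curv2.deg k X E 2 = Curv2.deg k X L' 1 + Curv2.deg k X (cokernel j) 1 := by
  haveI := CurvLib.isNoetherian k (X := X)
  have hL1 := CurvLib.locFree_of_isInvertible hL
  have hEc := CurvLib.isCoh_of_locFree hE
  obtain ⟨Q, p, hp, hQ, hrk, hdg⟩ := exists_saturation (k := k) hdim hE i (CurvLib.isCoh_of_locFree hL1)
  rw [genRank_eq hL1] at hrk
  have hQc := CurvLib.isCoh_of_locFree hQ
  obtain ⟨hK, hrK, hdK⟩ := epi_data (k := k) hEc hQc p
  rw [genRank_eq hE] at hrK
  obtain ⟨hKr, -, -, -, -⟩ := sub_data (k := k) hdim hE (kernel.ι p) hK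
  rw [show genRank (kernel p) = 1 by omega] at hKr
  rw [show genRank Q = 1 by omega] at hQ
  let S : ShortComplex X.Modules := ShortComplex.mk (kernel.ι p) p (kernel.condition p)
  have hS : S.ShortExact := ShortComplex.ShortExact.mk (ShortComplex.exact_kernel p)
  let e : cokernel (kernel.ι p) ≅ Q :=
    (cokernelIsCokernel (kernel.ι p)).coconePointUniqueUpToIso hS.gIsCokernel
  have hC : PicF.IsInvertible (cokernel (kernel.ι p)) :=
    HilbPolyLib.isInvertible_of_iso e.symm (GrassSch.isInvertible_of_rank_one hQ)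
  refine ⟨kernel p, kernel.ι p, GrassSch.isInvertible_of_rank_one hKr, inferInstance, hC, ?_, ?_⟩
  · rw [deg_eq_dg hL1, deg_eq_dg hKr]
    omega
  · rw [deg_eq_dg hE, deg_eq_dg hKr, CurvLib.deg_congr (k := k) e 1, deg_eq_dg hQ]
    exact hdK

/-- A non split extension of line bundles has bounded degree difference. -/
theorem deg_sub_le_of_not_split {S : ShortComplex X.Modules} (hS : S.ShortExact) (h₁ : PicF.IsInvertible S.X₁)
    (h₃ : PicF.IsInvertible S.X₃) (hns : ¬ IsSplitEpi S.g) :
    Curv2.deg k X S.X₁ 1 - Curv2.deg k X S.X₃ 1 ≤ 2 * (Curv2.genus k X : ℤ) - 2 := by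
  by_contra hcon
  push Not at hcon
  obtain ⟨eQ⟩ := MiscFlat6.nonempty_dualIso h₃
  have hQ' := MiscFlat6.dual_isInvertible h₃
  let e : CohB1.tensorMod (MiscFlat6.dual S.X₃) S.X₃ ≅ Coh.structureModule X := HilbPolyLib.swapIso _ _ ≪≫ eQ
  refine hns (CurveSDLib.isSplitEpi_of_h1 k hS hQ' e (RRVanLib.subsingleton_h1 hdim
    (RRVanLib.finrank_h0_structure (k := k) (X := X)) (HilbPolyLib.isInvertible_tensor hQ' h₁) ?_))
  have h3 := GenusZeroLib.deg_tensor k hdim hQ' h₃
  rw [CurvLib.deg_congr (k := k) e 1,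
    show Curv2.deg k X (Coh.structureModule X) 1 = 0 by rw [Curv2.deg]; push_cast; ring] at h3
  rw [GenusZeroLib.deg_tensor k hdim hQ' h₁]
  omega

omit [IsIntegral X] [IsProper (X ↘ Spec (CommRingCat.of k))] [Smooth (X ↘ Spec (CommRingCat.of k))] [IsAlgClosed k] hdim in
/-- A split short exact sequence. -/
def isoBiprod_of_split {S : ShortComplex X.Modules} (hS : S.ShortExact) (h : IsSplitEpi S.g) :
    S.X₂ ≅ S.X₁ ⊞ S.X₃ :=
  haveI := h
  (ShortComplex.Splitting.ofExactOfSection S hS.exact (section_ S.g) (IsSplitEpi.id S.g) hS.mono_f).isoBinaryBiproduct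

/-- Line subsheaves of indecomposable bundles of rank two. -/
theorem two_deg_le_of_indecomposable {E : X.Modules} (hE : FlatMod.IsFinLocFreeOfRank 2 E)
    (hind : ∀ L₁ L₂ : X.Modules, PicF.IsInvertible L₁ → PicF.IsInvertible L₂ → IsEmpty (E ≅ L₁ ⊞ L₂))
    {L : X.Modules} (hL : PicF.IsInvertible L) (i : L ⟶ E) [Mono i] :
    2 * Curv2.deg k X L 1 ≤ Curv2.deg k X E 2 + 2 * (Curv2.genus k X : ℤ) - 2 := by
  obtain ⟨L', j, hL', hj, hC, hle, hd⟩ := exists_saturated (k := k) hdim hE hL i
  have hS : (ShortComplex.mk j (cokernel.π j) (cokernel.condition j)).ShortExact :=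
    { exact := ShortComplex.exact_of_g_is_cokernel _ (cokernelIsCokernel j)
      mono_f := inferInstanceAs (Mono j)
      epi_g := inferInstanceAs (Epi (cokernel.π j)) }
  have h := deg_sub_le_of_not_split (k := k) hdim (S := ShortComplex.mk j (cokernel.π j) (cokernel.condition j)) hS hL' hC
    fun h => (hind _ _ hL' hC).false (isoBiprod_of_split (S := ShortComplex.mk j (cokernel.π j) (cokernel.condition j)) hS h)
  change Curv2.deg k X L' 1 - Curv2.deg k X (cokernel j) 1 ≤ _ at h
  omega

/-- Riemann–Roch gives line subsheaves. -/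
theorem exists_line_sub {E : X.Modules} (hE : FlatMod.IsFinLocFreeOfRank 2 E) (n : ℤ)
    (hn : 2 * (Curv2.genus k X : ℤ) - 2 < Curv2.deg k X E 2 + 2 * n) :
    ∃ (N : X.Modules) (s : Coh.structureModule X ⟶ CohB1.tensorMod N E),
      PicF.IsInvertible N ∧ Curv2.deg k X N 1 = n ∧ s ≠ 0 := by
  haveI := CurvLib.isNoetherian k (X := X)
  obtain ⟨N, hN, hNd⟩ := exists_invertible_deg (k := k) hdim n
  suffices h : ∃ s : Coh.structureModule X ⟶ CohB1.tensorMod N E, s ≠ 0 by
    obtain ⟨s, hs⟩ := h
    exact ⟨N, s, hN, hNd, hs⟩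
  have hd := deg_twist (k := k) hdim hE hN
  rw [hNd] at hd
  have hχ : Curv2.euler k X (Coh.structureModule X) = 1 - (Curv2.genus k X : ℤ) :=
    RRVanLib.euler_structure hdim (RRVanLib.finrank_h0_structure (k := k) (X := X))
  have he := CurvLib.euler_curve (k := k) hdim (CohB1.tensorMod N E)
  simp only [Curv2.deg, hχ] at hd hn
  push_cast at hd hn
  have hpos : 0 < Module.finrank k (Coh.structureModule X ⟶ CohB1.tensorMod N E) := by
    rw [finrank_hom]
    omega
  haveI := Module.nontrivial_of_finrank_pos hpos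
  obtain ⟨s, hs⟩ := exists_ne (0 : Coh.structureModule X ⟶ CohB1.tensorMod N E)
  exact ⟨s, hs⟩

omit [IsAlgClosed k] in
/-- Sections of twists are maps from the inverse. -/
theorem exists_sub_of_section {E : X.Modules} (hE : FlatMod.IsFinLocFreeOfRank 2 E) {N : X.Modules}
    (hN : PicF.IsInvertible N) (s : Coh.structureModule X ⟶ CohB1.tensorMod N E) (hs : s ≠ 0) :
    ∃ (L : X.Modules) (i : L ⟶ E), PicF.IsInvertible L ∧ Mono i ∧ Curv2.deg k X L 1 = -Curv2.deg k X N 1 := by
  obtain ⟨eN⟩ := MiscFlat6.nonempty_dualIso hN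
  let M := MiscFlat6.dual N
  have hM : PicF.IsInvertible M := MiscFlat6.dual_isInvertible hN
  haveI : (tensorLeft' N).IsEquivalence := VBP1Lib.isEquivalence_tensor (L := N) (M := MiscFlat6.dual N) eN
  haveI : (tensorLeft' N).Additive := Functor.additive_of_preserves_binary_products _
  let e : (tensorLeft' N).obj M ≅ Coh.structureModule X := eN
  obtain ⟨ψ, hψ⟩ := (tensorLeft' N).map_surjective (e.hom ≫ s)
  have hψ0 : ψ ≠ 0 := fun h0 => hs (by
    rw [h0, Functor.map_zero] at hψ
    rw [← cancel_epi e.hom, comp_zero]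
    exact hψ.symm)
  haveI := mono_of_line (k := k) hdim (CurvLib.locFree_of_isInvertible hM) hE hψ0
  refine ⟨M, ψ, hM, inferInstance, ?_⟩
  have h2 := GenusZeroLib.deg_tensor k hdim hN hM
  rw [CurvLib.deg_congr (k := k) eN 1,
    show Curv2.deg k X (Coh.structureModule X) 1 = 0 by rw [Curv2.deg]; push_cast; ring] at h2
  omega

omit [IsAlgClosed k] in
/-- A positive line subsheaf gives a section of a negative twist. -/
theorem exists_section_of_sub {E : X.Modules} {L : X.Modules} (hL : PicF.IsInvertible L) (i : L ⟶ E) [Mono i] :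
    ∃ M : X.Modules, PicF.IsInvertible M ∧ Curv2.deg k X M 1 = -Curv2.deg k X L 1 ∧
      ¬ Subsingleton (Coh.HH X (CohB1.tensorMod E M) 0) := by
  haveI := CurvLib.isNoetherian k (X := X)
  obtain ⟨eL⟩ := MiscFlat6.nonempty_dualIso hL
  let M := MiscFlat6.dual L
  have hM : PicF.IsInvertible M := MiscFlat6.dual_isInvertible hL
  let eM : CohB1.tensorMod M L ≅ Coh.structureModule X := HilbPolyLib.swapIso _ _ ≪≫ eL
  haveI : (tensorLeft' M).IsEquivalence := VBP1Lib.isEquivalence_tensor (L := M) (M := L) eM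
  let e' : (tensorLeft' M).obj L ≅ Coh.structureModule X := eM
  let sw : (tensorLeft' M).obj E ≅ CohB1.tensorMod E M := HilbPolyLib.swapIso M E
  let s : Coh.structureModule X ⟶ CohB1.tensorMod E M := e'.inv ≫ (tensorLeft' M).map i ≫ sw.hom
  refine ⟨M, hM, ?_, fun hsub => ?_⟩
  · have h2 := GenusZeroLib.deg_tensor k hdim hM hL
    rw [CurvLib.deg_congr (k := k) eM 1,
      show Curv2.deg k X (Coh.structureModule X) 1 = 0 by rw [Curv2.deg]; push_cast; ring] at h2
    omega
  · haveI : Mono ((tensorLeft' M).map i) := inferInstance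
    haveI : Mono s := by dsimp only [s]; infer_instance
    have hs : s = 0 := (homEquiv (k := k) (CohB1.tensorMod E M)).injective (hsub.elim _ _)
    have hz : IsZero (Coh.structureModule X) :=
      (IsZero.iff_id_eq_zero _).2 (by rw [← cancel_mono s, hs, comp_zero, comp_zero])
    have := genRank_of_isZero hz
    rw [genRank_eq (CurvLib.locFree_of_isInvertible CurvLib.isInvertible_structureModule)] at this
    omega

end GenusOneSSLib

end
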